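import Groth.Agent.L10.Shriek.Finite
import Groth.Agent.L10.Shriek.BaseChange
import Groth.Agent.S1807
import Mathlib.Algebra.Category.Ring.Epi
import Mathlib.AlgebraicGeometry.Morphisms.Flat
import Mathlib.AlgebraicGeometry.OpenImmersion

/-! The upper shriek of a flat epimorphism of finite type is the base change. -/

set_option autoImplicit false

universe u

open CategoryTheory CategoryTheory.Limits AlgebraicGeometry TensorProduct

attribute [local instance] HasDerivedCategory.standard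

set_option backward.defeqAttrib.useBackward true
set_option backward.isDefEq.respectTransparency false
set_option linter.style.haveILetI false

namespace Groth.L29.ShriekEpi

open Groth.L10 Groth.L10.Shriek

/-- restriction along the identity -/
noncomputable def restrictDId (A : Type u) [CommRing A] : DRing.restrictD (RingHom.id A) ≅ 𝟭 (Dual.D A) :=
  letI : Localization.Lifting DerivedCategory.Q (HomologicalComplex.quasiIso (ModuleCat.{u} A) (ComplexShape.up ℤ))
      (DerivedCategory.Q (C := ModuleCat.{u} A)) (𝟭 (Dual.D A)) :=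
    ⟨Functor.rightUnitor _⟩
  Localization.liftNatIso DerivedCategory.Q (HomologicalComplex.quasiIso (ModuleCat.{u} A) (ComplexShape.up ℤ))
    ((ModuleCat.restrictScalars.{u} (RingHom.id A)).mapHomologicalComplex (ComplexShape.up ℤ) ⋙ DerivedCategory.Q)
    DerivedCategory.Q
    (DRing.restrictD (RingHom.id A)) (𝟭 (Dual.D A))
    (Functor.isoWhiskerRight (NatIso.mapHomologicalComplex (ModuleCat.restrictScalarsId A) (ComplexShape.up ℤ) ≪≫
      Functor.mapHomologicalComplexIdIso _ _) _ ≪≫ Functor.leftUnitor _)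

theorem nonempty_iso_of_epi (R R' : Type u) [CommRing R] [CommRing R'] [IsNoetherianRing R] [IsNoetherianRing R']
    [Algebra R R'] [Module.Flat R R'] [Algebra.IsEpi R R'] (n : ℕ) (ψ : MvPolynomial (Fin n) R →ₐ[R] R')
    (hψ : Function.Surjective ψ) [DRing.HasLBaseChange (algebraMap R (MvPolynomial (Fin n) R))]
    (Rψ : Dual.D (MvPolynomial (Fin n) R) ⥤ Dual.D R') (adj : DRing.restrictD ψ.toRingHom ⊣ Rψ)
    [DRing.HasLBaseChange (algebraMap R R')] (K : Dual.D R) :
    Nonempty (Dual2.shriekVia n Rψ K ≅ (DRing.LBaseChange (algebraMap R R')).obj K) := by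
  let T := R' ⊗[R] R'
  let i : R' →+* T := algebraMap R' T
  let μ : T ≃ₐ[R] R' := AlgEquiv.ofBijective (Algebra.TensorProduct.lmul' R)
    ⟨fun x y h => Algebra.IsEpi.injective_lift_mul h, fun a => ⟨a ⊗ₜ 1, (Algebra.TensorProduct.lmul'_apply_tmul a 1).trans (mul_one a)⟩⟩
  let m : T →+* R' := μ.toRingEquiv.toRingHom
  have hmi : ∀ a, m (i a) = a := fun a => by
    show Algebra.TensorProduct.lmul' R (a ⊗ₜ[R] (1 : R')) = a
    simp
  have him : ∀ t, i (m t) = t := fun t => μ.injective (hmi (m t))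
  have hi : Function.Bijective i := ⟨Function.LeftInverse.injective hmi, fun t => ⟨m t, him t⟩⟩
  haveI : IsNoetherianRing T := isNoetherianRing_of_ringEquiv R' μ.symm.toRingEquiv
  haveI : Module.Finite R' T := RingHom.finite_algebraMap.1 (RingHom.Finite.of_surjective i hi.2)
  let ψ' : MvPolynomial (Fin 0) R' →ₐ[R'] T := MvPolynomial.aeval (fun k : Fin 0 => k.elim0)
  have hψ' : Function.Surjective ψ' := fun t => ⟨MvPolynomial.C (m t), by
    rw [MvPolynomial.aeval_C]
    exact him t⟩
  haveI := KFlatLBC.hasLBaseChange (algebraMap R' (MvPolynomial (Fin 0) R'))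
  haveI := KFlatLBC.hasLBaseChange (Algebra.TensorProduct.includeRight : R' →ₐ[R] T).toRingHom
  haveI := KFlatLBC.hasLBaseChange i
  obtain ⟨Rψ', ⟨adj'⟩⟩ := exists_rightAdjoint ψ'.toRingHom
  obtain ⟨b⟩ := Groth.Agent.S1807.result R R' R' n ψ hψ Rψ adj 0 ψ' hψ' Rψ' adj' K
  obtain ⟨Ri, ⟨adji⟩⟩ := exists_rightAdjoint i
  obtain ⟨Rm, ⟨adjm⟩⟩ := exists_rightAdjoint m
  obtain ⟨f⟩ := nonempty_finite 0 ψ' adj' adji ((DRing.LBaseChange (algebraMap R R')).obj K)
  obtain ⟨c⟩ := nonempty_comp_rightAdjoint (φ := i) (ψ := m) (χ := RingHom.id R')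
    (RingHom.ext fun a => (hmi a).symm) adji adjm
    (CategoryTheory.Adjunction.id.ofNatIsoLeft (restrictDId R').symm)
  have hk : ∀ (x y : R' →+* T) [DRing.HasLBaseChange x] [DRing.HasLBaseChange y], x = y → ∀ X : Dual.D R',
      Nonempty ((DRing.LBaseChange x).obj X ≅ (DRing.LBaseChange y).obj X) := by
    rintro x y _ _ rfl X
    exact ⟨Iso.refl _⟩
  obtain ⟨k⟩ := hk i (Algebra.TensorProduct.includeRight : R' →ₐ[R] T).toRingHom
    (RingHom.ext fun a => μ.injective (by
      show m (i a) = Algebra.TensorProduct.lmul' R ((1 : R') ⊗ₜ[R] a)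
      rw [hmi]
      simp)) (Dual2.shriekVia n Rψ K)
  obtain ⟨e⟩ := (SecShift.of_bijective i m (RingHom.Flat.of_bijective hi) hmi him) Rm adjm
    (Dual2.shriekVia n Rψ K)
  exact ⟨e.symm ≪≫ Rm.mapIso ((shiftFunctorZero (Dual.D T) ℤ).app _ ≪≫ k ≪≫ b ≪≫ f) ≪≫ (c.app _).symm⟩

theorem flat_epi_of_isOpenImmersion (R R' : Type u) [CommRing R] [CommRing R'] [Algebra R R']
    (h : IsOpenImmersion (Spec.map (CommRingCat.ofHom (algebraMap R R')))) :
    Module.Flat R R' ∧ Algebra.IsEpi R R' := by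
  haveI := h
  refine ⟨RingHom.flat_algebraMap_iff.1
    ((HasRingHomProperty.Spec_iff (P := @AlgebraicGeometry.Flat) (φ := CommRingCat.ofHom (algebraMap R R'))).1 inferInstance), ?_⟩
  refine CommRingCat.epi_iff_epi.1 ⟨fun {Z} g g' hg => ?_⟩
  apply Spec.map_injective
  rw [← cancel_mono (Spec.map (CommRingCat.ofHom (algebraMap R R'))), ← Spec.map_comp, ← Spec.map_comp, hg]

end Groth.L29.ShriekEpi
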