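import Groth.Agent.L29.Dual.DualBC
import Groth.Agent.L29.Dual.SurjRes
import Groth.Agent.L29.Dual.RestrictAdj
import Groth.Agent.L29.Dual.KoszulExt
import Groth.Agent.L29.Dual.InvertibleChart
import Groth.Agent.L21.KoszulRegular
import Groth.Agent.L10.DerTrunc
import Groth.Agent.L10.DRing.Modules
import Groth.Prelude.Def_LCI2
import Groth.Prelude.Def_DualSh
import Mathlib.RingTheory.TensorProduct.Quotient
import Mathlib.Algebra.Homology.DerivedCategory.Ext.Linear

/-!
The relative dualizing complex of a local complete intersection is invertible.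
-/

set_option autoImplicit false

universe u

open CategoryTheory CategoryTheory.Limits TensorProduct

attribute [local instance] HasDerivedCategory.standard

set_option backward.defeqAttrib.useBackward true
set_option backward.isDefEq.respectTransparency false
set_option backward.isDefEq.respectTransparency.types false
set_option linter.style.haveILetI false

namespace Groth.L29.ShriekLCI

open RingTheory.Sequence CategoryTheory.Abelian

/-- the semilinear bijection between the cohomology of a right adjoint and morphisms upstairs -/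
theorem exists_semilinear {P A : Type u} [CommRing P] [CommRing A] (ψ : P →+* A)
    {F : Dual.D P ⥤ Dual.D A} (adj : DRing.restrictD ψ ⊣ F) (K : Dual.D P) (i : ℤ) :
    ∃ ρ : (Dual.inD P ((ModuleCat.restrictScalars.{u} ψ).obj (ModuleCat.of A A)) ⟶ K⟦i⟧) →ₛₗ[ψ]
      Dual.HD A (F.obj K) i, Function.Bijective ρ := by
  let M : ModuleCat.{u} A := ModuleCat.of A A
  let e1 := (RestrictAdj.shiftLeft (Dual.inD P ((ModuleCat.restrictScalars.{u} ψ).obj M)) K i).trans
    (Linear.homCongr P (((DRing.restrictD ψ).commShiftIso (-i)).app _ ≪≫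
      (shiftFunctor (Dual.D P) (-i)).mapIso (RestrictAdj.restrictSingle ψ M)).symm (Iso.refl K))
  let e2 := (RestrictAdj.shiftLeft (Dual.inD A M) (F.obj K) i).symm.trans (HomD.evalShiftEquiv (F.obj K) i)
  refine ⟨{ toFun := fun x => e2 (adj.homEquiv _ _ (e1 x))
            map_add' := fun x y => by rw [map_add, RestrictAdj.homEquiv_add ψ adj, map_add]
            map_smul' := fun a x => by rw [map_smul, RestrictAdj.homEquiv_smul ψ adj, map_smul] }, ?_⟩
  exact e2.bijective.comp ((adj.homEquiv _ _).bijective.comp e1.bijective)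

/-- `Ext` out of the quotient by a weakly regular sequence into the ring is concentrated in one degree -/
theorem hom_quotient {B : Type u} [CommRing B] (xs : List B) (h : IsWeaklyRegular B xs) :
    (∀ i : ℤ, i ≠ xs.length → Subsingleton (Dual.inD B (B ⧸ Ideal.ofList xs) ⟶ (Dual.inD B B)⟦i⟧)) ∧
      Nonempty ((Dual.inD B (B ⧸ Ideal.ofList xs) ⟶ (Dual.inD B B)⟦(xs.length : ℤ)⟧) ≃ₗ[B]
        B ⧸ Ideal.ofList xs) := by
  obtain ⟨h1, h2⟩ := KoszulExt.exists_top_and_vanishing xs h
  refine ⟨fun i hi => ?_, ?_⟩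
  · rcases lt_or_ge i 0 with hneg | hpos
    · haveI : DerivedCategory.IsGE ((Dual.inD B B)⟦i⟧) (-i) :=
        DerivedCategory.TStructure.t.isGE_shift (Dual.inD B B) 0 i (-i) (by lia)
      exact ⟨fun f g => by
        rw [DerivedCategory.TStructure.t.zero f 0 (-i) (by lia), DerivedCategory.TStructure.t.zero g 0 (-i) (by lia)]⟩
    · obtain ⟨j, rfl⟩ := Int.eq_ofNat_of_zero_le hpos
      haveI : Subsingleton (Ext (ModuleCat.of B (B ⧸ Ideal.ofList xs)) (ModuleCat.of B B) j) := by
        rcases lt_or_gt_of_ne (show j ≠ xs.length from fun h => hi (by rw [h])) with hlt | hgt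
        · exact KoszulExt.subsingleton_lt_length xs h (ModuleCat.of B B) h j hlt
        · exact h1 _ j hgt
      exact (Ext.homEquiv (X := ModuleCat.of B (B ⧸ Ideal.ofList xs)) (Y := ModuleCat.of B B) (n := j)).symm.subsingleton
  · obtain ⟨e⟩ := h2 (ModuleCat.of B B)
    exact ⟨(Ext.homLinearEquiv (R := B) (X := ModuleCat.of B (B ⧸ Ideal.ofList xs)) (Y := ModuleCat.of B B)
      (n := xs.length)).symm.trans (e.trans (Submodule.quotEquivOfEq _ _ (by simp)))⟩

/-- the same after a flat base change -/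
theorem tensor_hom {P : Type u} [CommRing P] [IsNoetherianRing P] (I : Ideal P) (B : Type u) [CommRing B] [Algebra P B]
    [Module.Flat P B] (xs : List B) (h : IsWeaklyRegular B xs) (hI : I.map (algebraMap P B) = Ideal.ofList xs) :
    (∀ i : ℤ, i ≠ xs.length → Subsingleton (B ⊗[P] (Dual.inD P (P ⧸ I) ⟶ (Dual.inD P P)⟦i⟧))) ∧
      Nonempty (B ⊗[P] (Dual.inD P (P ⧸ I) ⟶ (Dual.inD P P)⟦(xs.length : ℤ)⟧) ≃ₗ[B] B ⧸ Ideal.ofList xs) := by
  let eI : B ⊗[P] (P ⧸ I) ≃ₗ[B] B ⧸ Ideal.ofList xs :=
    (Algebra.TensorProduct.quotIdealMapEquivTensorQuot B I).symm.toLinearEquiv.trans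
      (Submodule.quotEquivOfEq _ _ hI)
  let eP : (FlatBC.L P B).obj (Dual.inD P P) ≅ Dual.inD B B :=
    FlatBC.singleL B P ≪≫ (DerivedCategory.singleFunctor (ModuleCat.{u} B) 0).mapIso
      (TensorProduct.AlgebraTensorModule.rid P B B).toModuleIso
  let eH : ∀ i : ℤ, B ⊗[P] (Dual.inD P (P ⧸ I) ⟶ (Dual.inD P P)⟦i⟧) ≃ₗ[B]
      (Dual.inD B (B ⧸ Ideal.ofList xs) ⟶ (Dual.inD B B)⟦i⟧) := fun i =>
    (FlatBC.homEquiv (B := B) (W := Dual.inD P P) 0 (P ⧸ I) i).trans
      (Linear.homCongr B ((DerivedCategory.singleFunctor (ModuleCat.{u} B) 0).mapIso eI.toModuleIso)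
        ((shiftFunctor (Dual.D B) i).mapIso eP))
  obtain ⟨h1, ⟨h2⟩⟩ := hom_quotient xs h
  exact ⟨fun i hi => haveI := h1 i hi; (eH i).toEquiv.subsingleton, ⟨(eH _).trans h2⟩⟩

/-- a generator of a localised cyclic module -/
theorem exists_gen_loc {P : Type u} [CommRing P] {M : Type*} [AddCommGroup M] [Module P M] (S : Submonoid P)
    (I : Ideal P) (B : Type u) [CommRing B] [Algebra P B] [IsLocalization S B] (J : Ideal B)
    (hJ : J = I.map (algebraMap P B)) (e : B ⊗[P] M ≃ₗ[B] B ⧸ J) :
    ∃ m : M, (∀ y : M, ∃ s ∈ S, ∃ a : P, s • y = a • m) ∧ ∀ a : P, a • m = 0 → ∃ s ∈ S, s * a ∈ I := by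
  haveI : IsLocalizedModule S (TensorProduct.mk P B M 1) :=
    (isLocalizedModule_iff_isBaseChange S B _).2 (TensorProduct.isBaseChange P M B)
  let g : M →ₗ[P] B ⊗[P] M := TensorProduct.mk P B M 1
  obtain ⟨⟨m, s⟩, hms⟩ := IsLocalizedModule.surj S g (e.symm 1)
  have he : Ideal.Quotient.mk J (algebraMap P B s.1) = e (g m) := by
    have := congrArg e hms
    rw [Submonoid.smul_def, ← algebraMap_smul B s.1 (e.symm 1), map_smul, e.apply_symm_apply] at this
    rw [← this, Algebra.smul_def, mul_one]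
    rfl
  refine ⟨m, fun y => ?_, fun a ha => ?_⟩
  · obtain ⟨b, hb⟩ := Ideal.Quotient.mk_surjective (e (g y))
    obtain ⟨⟨r, t⟩, hrt⟩ := IsLocalization.surj S b
    have h1 : g ((s.1 * t.1) • y) = g (r • m) := by
      apply e.injective
      rw [map_smul g (s.1 * t.1) y, map_smul g r m, ← algebraMap_smul B (s.1 * t.1) (g y), ← algebraMap_smul B r (g m), map_smul, map_smul,
        ← he, ← hb, Algebra.smul_def, Algebra.smul_def, Ideal.Quotient.algebraMap_eq, ← map_mul, ← map_mul]
      congr 1
      rw [← hrt, map_mul]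
      ring
    obtain ⟨c, hc⟩ := (IsLocalizedModule.eq_iff_exists S g).1 h1
    exact ⟨c.1 * (s.1 * t.1), S.mul_mem c.2 (S.mul_mem s.2 t.2), c.1 * r, by
      rw [mul_smul c.1 (s.1 * t.1) y, mul_smul c.1 r m, ← Submonoid.smul_def, ← Submonoid.smul_def, hc]⟩
  · have h0 : Ideal.Quotient.mk J (algebraMap P B (a * s.1)) = 0 := by
      have : algebraMap P B a • e (g m) = 0 := by
        rw [← map_smul, algebraMap_smul, ← map_smul g, ha, map_zero, map_zero]
      rw [← he, Algebra.smul_def, Ideal.Quotient.algebraMap_eq, ← map_mul, ← map_mul] at this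
      exact this
    rw [Ideal.Quotient.eq_zero_iff_mem, hJ] at h0
    obtain ⟨t, ht, htI⟩ := (IsLocalization.algebraMap_mem_map_algebraMap_iff S B I _).1 h0
    exact ⟨t * s.1, S.mul_mem ht s.2, by rw [show t * s.1 * a = t * (a * s.1) by ring]; exact htI⟩

/-- local vanishing on a basic open kills the base change -/
theorem subsingleton_away {A : Type u} [CommRing A] (M : Type u) [AddCommGroup M] [Module A M] (f : A)
    (h : ∀ q : PrimeSpectrum A, f ∉ q.asIdeal → ∀ x : M, ∃ s ∉ q.asIdeal, s • x = 0) :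
    Subsingleton (Localization.Away f ⊗[A] M) := by
  haveI : Subsingleton (LocalizedModule (Submonoid.powers f) M) := by
    refine LocalizedModule.subsingleton_iff.2 fun x => ?_
    have hf : f ∈ Ideal.radical (LinearMap.ker (LinearMap.toSpanSingleton A M x)) := by
      rw [Ideal.radical_eq_sInf]
      refine Submodule.mem_sInf.2 ?_
      rintro Q ⟨hQ, hQp⟩
      by_contra hfQ
      obtain ⟨s, hs, hsx⟩ := h ⟨Q, hQp⟩ hfQ x
      exact hs (hQ (by simpa using hsx))
    obtain ⟨k, hk⟩ := Ideal.mem_radical_iff.1 hf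
    exact ⟨f ^ k, ⟨k, rfl⟩, by simpa using hk⟩
  exact (LocalizedModule.equivTensorProduct (Submonoid.powers f) M).symm.toEquiv.subsingleton

/-- a module generated freely by one element after inverting `s` becomes free -/
theorem nonempty_away_equiv {A : Type u} [CommRing A] (H : Type u) [AddCommGroup H] [Module A H] (m : H) (s f : A)
    (hs : s ∣ f) (h1 : ∀ y : H, ∃ a : A, s • y = a • m) (h2 : ∀ a : A, a • m = 0 → s * a = 0) :
    Nonempty (Localization.Away f ⊗[A] H ≃ₗ[Localization.Away f] Localization.Away f) := by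
  choose c hc using h1
  let g : H →ₗ[A] A :=
    { toFun := fun y => s * c y
      map_add' := fun y z => by
        have := h2 (c (y + z) - (c y + c z)) (by rw [sub_smul, add_smul, ← hc, ← hc, ← hc, smul_add, sub_self])
        linear_combination this
      map_smul' := fun a y => by
        have := h2 (c (a • y) - a * c y) (by rw [sub_smul, mul_smul, ← hc, ← hc, smul_comm, sub_self])
        show s * c (a • y) = a * (s * c y)
        linear_combination this }
  let φ : A →ₗ[A] H := LinearMap.toSpanSingleton A H m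
  have hgφ : g ∘ₗ φ = (s * s) • LinearMap.id := LinearMap.ext_ring (by
    have := h2 (c m - s) (by rw [sub_smul, ← hc, sub_self])
    show s * c ((1 : A) • m) = (s * s) • 1
    rw [one_smul, smul_eq_mul, mul_one]
    linear_combination this)
  have hφg : φ ∘ₗ g = (s * s) • LinearMap.id := LinearMap.ext fun y => by
    show (s * c y) • m = (s * s) • y
    rw [mul_smul, ← hc, mul_smul]
  let L := Localization.Away f
  have hu : IsUnit (algebraMap A L (s * s)) := by
    have : IsUnit (algebraMap A L s) :=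
      isUnit_of_dvd_unit (map_dvd _ hs) (IsLocalization.Away.algebraMap_isUnit f)
    rw [map_mul]
    exact this.mul this
  have hb : Function.Bijective (φ.baseChange L) := by
    have key : ∀ (N : Type u) [AddCommGroup N] [Module A N] (x : L ⊗[A] N),
        ((s * s) • (LinearMap.id : N →ₗ[A] N)).baseChange L x = algebraMap A L (s * s) • x := fun N _ _ x => by
      rw [LinearMap.baseChange_smul, LinearMap.baseChange_id]
      exact (algebraMap_smul L (s * s) x).symm
    constructor
    · refine Function.Injective.of_comp (f := g.baseChange L) fun x y hxy => hu.smul_left_cancel.1 ?_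
      have h' : (g ∘ₗ φ).baseChange L x = (g ∘ₗ φ).baseChange L y := by
        rw [LinearMap.baseChange_comp]; exact hxy
      rw [hgφ, key, key] at h'
      exact h'
    · intro y
      refine ⟨g.baseChange L (hu.unit⁻¹.1 • y), ?_⟩
      rw [← LinearMap.comp_apply, ← LinearMap.baseChange_comp, hφg, key, smul_smul, IsUnit.mul_val_inv, one_smul]
  exact ⟨(LinearEquiv.ofBijective (φ.baseChange L) hb).symm.trans (TensorProduct.AlgebraTensorModule.rid A L L)⟩

set_option maxHeartbeats 800000 in
theorem exists_local {R A : Type u} [CommRing R] [CommRing A] [IsNoetherianRing R] [IsNoetherianRing A] [Algebra R A]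
    (n : ℕ) (ψ : MvPolynomial (Fin n) R →ₐ[R] A) (hψ : Function.Surjective ψ)
    [DRing.HasLBaseChange (algebraMap R (MvPolynomial (Fin n) R))]
    {F : Dual.D (MvPolynomial (Fin n) R) ⥤ Dual.D A} (adj : DRing.restrictD ψ.toRingHom ⊣ F)
    (hI : LCI.IsKoszulRegularIdeal (RingHom.ker ψ.toRingHom)) (q : PrimeSpectrum A) :
    ∃ (f : A) (_ : f ∉ q.asIdeal) (m : ℤ), ∀ [DRing.HasLBaseChange (algebraMap A (Localization.Away f))],
      Nonempty ((DRing.LBaseChange (algebraMap A (Localization.Away f))).obj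
        (Dual2.shriekVia n F (Dual.inD R R)) ≅ (Dual.inD (Localization.Away f) (Localization.Away f))⟦m⟧) := by
  let P := MvPolynomial (Fin n) R
  let I : Ideal P := RingHom.ker ψ.toRingHom
  have hker : ∀ x, x ∈ I ↔ ψ x = 0 := fun x => RingHom.mem_ker
  have hle : ∀ p : PrimeSpectrum A, I ≤ p.asIdeal.comap ψ.toRingHom := fun p x hx => by
    show ψ x ∈ p.asIdeal
    rw [(hker x).1 hx]
    exact zero_mem _
  obtain ⟨g, hg, l, hl, hmap⟩ := hI ⟨q.asIdeal.comap ψ.toRingHom, inferInstance⟩ (hle q)
  haveI : Module.Flat R P := Module.Flat.of_free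
  -- the base change of the structure module to `P`
  let K : Dual.D P := (DRing.LBaseChange (algebraMap R P)).obj (Dual.inD R R)
  let eK : K ≅ Dual.inD P P := (FlatBC.lbcIso (A := R) (B := P)).app _ ≪≫ FlatBC.singleL P R ≪≫
    (DerivedCategory.singleFunctor (ModuleCat.{u} P) 0).mapIso (TensorProduct.AlgebraTensorModule.rid R P P).toModuleIso
  let eA : (P ⧸ I) ≃ₗ[P] (ModuleCat.restrictScalars.{u} ψ.toRingHom).obj (ModuleCat.of A A) :=
    LinearEquiv.ofBijective
      (Submodule.liftQ I
        ({ toFun := fun x => (ψ x : A), map_add' := map_add ψ, map_smul' := fun a x => map_mul ψ a x } :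
          P →ₗ[P] (ModuleCat.restrictScalars.{u} ψ.toRingHom).obj (ModuleCat.of A A))
        fun x hx => (hker x).1 hx)
      ⟨fun x y h => by
        obtain ⟨x, rfl⟩ := Submodule.Quotient.mk_surjective _ x
        obtain ⟨y, rfl⟩ := Submodule.Quotient.mk_surjective _ y
        exact (Submodule.Quotient.eq _).2 ((hker _).2 (by
          rw [map_sub, sub_eq_zero]
          exact h)),
      fun a => (hψ a).elim fun x hx => ⟨Submodule.Quotient.mk x, hx⟩⟩
  -- cohomology of the shriek against `Ext`
  have hρ : ∀ i : ℤ, ∃ ρ : (Dual.inD P (P ⧸ I) ⟶ (Dual.inD P P)⟦i⟧) →ₛₗ[ψ.toRingHom]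
      Dual.HD A (F.obj K) i, Function.Bijective ρ := fun i => by
    obtain ⟨ρ, hb⟩ := exists_semilinear ψ.toRingHom adj K i
    let e := Linear.homCongr P ((DerivedCategory.singleFunctor (ModuleCat.{u} P) 0).mapIso eA.toModuleIso)
      ((shiftFunctor (Dual.D P) i).mapIso eK.symm)
    exact ⟨ρ.comp e.toLinearMap, hb.comp e.bijective⟩
  choose ρ hρb using hρ
  -- localisation at a prime of the neighbourhood
  let c : ℤ := (l.length : ℤ)
  have hloc : ∀ p : PrimeSpectrum A, ψ g ∉ p.asIdeal →
      (∀ i, i ≠ c → ∀ y : Dual.HD A (F.obj K) i, ∃ s ∉ p.asIdeal, s • y = 0) ∧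
      ∃ m : Dual.HD A (F.obj K) c, (∀ y, ∃ s ∉ p.asIdeal, ∃ a : A, s • y = a • m) ∧
        ∀ a : A, a • m = 0 → ∃ s ∉ p.asIdeal, s * a = 0 := fun p hp => by
    let 𝔭 := p.asIdeal.comap ψ.toRingHom
    have hgp : g ∉ 𝔭 := hp
    let Pg := Localization.Away g
    let 𝔮 := 𝔭.map (algebraMap P Pg)
    have hdisj : Disjoint ((Submonoid.powers g : Submonoid P) : Set P) (𝔭 : Set P) := by
      rw [Set.disjoint_left]
      rintro x ⟨k, rfl⟩ hx
      exact hgp (Ideal.IsPrime.mem_of_pow_mem inferInstance k hx)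
    haveI : 𝔮.IsPrime := IsLocalization.isPrime_of_isPrime_disjoint (Submonoid.powers g) _ 𝔭 inferInstance hdisj
    have hcomap : 𝔮.comap (algebraMap P Pg) = 𝔭 :=
      IsLocalization.comap_map_of_isPrime_disjoint (Submonoid.powers g) _ inferInstance hdisj
    let B := Localization.AtPrime 𝔮
    haveI : IsNoetherianRing Pg := IsLocalization.isNoetherianRing (Submonoid.powers g) _ inferInstance
    haveI hB : IsLocalization.AtPrime B 𝔭 := by
      have := IsLocalization.isLocalization_isLocalization_atPrime_isLocalization (Submonoid.powers g) B 𝔮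
      convert this using 2
      exact hcomap.symm
    haveI : Module.Flat P B := IsLocalization.flat B 𝔭.primeCompl
    let xs : List B := l.reverse.map (algebraMap Pg B)
    have hlq : ∀ x ∈ l, x ∈ 𝔮 := fun x hx => by
      have : x ∈ I.map (algebraMap P Pg) := hmap ▸ Ideal.subset_span hx
      exact Ideal.map_mono (hle p) this
    have hreg : IsWeaklyRegular B xs := Groth.L21.KoszulRegular.isWeaklyRegular_localization 𝔮 l hlq fun i hi y => by
      haveI := ModuleCat.subsingleton_of_isZero (hl i hi.ne)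
      exact ⟨1, fun h => (inferInstance : 𝔮.IsPrime).ne_top ((Ideal.eq_top_iff_one _).2 h), Subsingleton.elim _ _⟩
    have hIB : I.map (algebraMap P B) = Ideal.ofList xs := by
      rw [IsScalarTower.algebraMap_eq P Pg B, ← Ideal.map_map, hmap, Ideal.map_span, Ideal.ofList]
      congr 1
      ext z
      simp [xs]
      rfl
    have hlen : (xs.length : ℤ) = c := by simp [xs, c]
    obtain ⟨hvan, ⟨he⟩⟩ := tensor_hom I B xs hreg hIB
    refine ⟨fun i hi y => ?_, ?_⟩
    · obtain ⟨x, rfl⟩ := (hρb i).2 y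
      haveI := hvan i (by rw [hlen]; exact hi)
      haveI : IsLocalizedModule 𝔭.primeCompl
          (TensorProduct.mk P B (Dual.inD P (P ⧸ I) ⟶ (Dual.inD P P)⟦i⟧) 1) :=
        (isLocalizedModule_iff_isBaseChange 𝔭.primeCompl B _).2 (TensorProduct.isBaseChange P _ B)
      obtain ⟨s, hs⟩ := (IsLocalizedModule.eq_zero_iff 𝔭.primeCompl
        (TensorProduct.mk P B (Dual.inD P (P ⧸ I) ⟶ (Dual.inD P P)⟦i⟧) 1)).1 (Subsingleton.elim _ (0 : _))
      refine ⟨ψ s.1, s.2, ?_⟩
      show ψ.toRingHom s.1 • ρ i x = 0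
      rw [← LinearMap.map_smulₛₗ, ← Submonoid.smul_def, hs, map_zero]
    · rw [← hlen]
      obtain ⟨m, hm1, hm2⟩ := exists_gen_loc 𝔭.primeCompl I B (Ideal.ofList xs) hIB.symm he
      refine ⟨ρ _ m, fun y => ?_, fun a ha => ?_⟩
      · obtain ⟨x, rfl⟩ := (hρb _).2 y
        obtain ⟨s, hs, a, hsa⟩ := hm1 x
        refine ⟨ψ s, hs, ψ a, ?_⟩
        show ψ.toRingHom s • _ = ψ.toRingHom a • _
        rw [← LinearMap.map_smulₛₗ, ← LinearMap.map_smulₛₗ, hsa]
      · obtain ⟨a, rfl⟩ := hψ a
        obtain ⟨s, hs, hsI⟩ := hm2 a ((hρb _).1 (by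
          rw [LinearMap.map_smulₛₗ, map_zero]
          exact ha))
        exact ⟨ψ s, hs, by rw [← map_mul]; exact (hker _).1 hsI⟩
  -- spreading out
  haveI : DerivedCategory.IsGE K 0 := DerivedCategory.TStructure.t.isGE_of_iso eK.symm 0
  let H : Type u := Dual.HD A (F.obj K) c
  haveI hHfin : Module.Finite A H := by
    haveI : Module.Finite P P := Module.Finite.self P
    haveI : Module.Finite P (P ⧸ I) := Module.Finite.of_surjective I.mkQ (Submodule.mkQ_surjective _)
    haveI : Module.Finite P (Dual.inD P (P ⧸ I) ⟶ (Dual.inD P P)⟦c⟧) :=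
      HomD.finite_hom _ (RestrictAdj.good_of_boundedBelow (Dual.inD P P) 0 (fun i hi =>
        ModuleCat.subsingleton_of_isZero (((DerivedCategory.isGE_iff (Dual.inD P P) 0).1 inferInstance) i hi))
        fun i => by
          let e0 : (DerivedCategory.homologyFunctor (ModuleCat.{u} P) 0).obj (Dual.inD P P) ≅ ModuleCat.of P P :=
            (DerivedCategory.singleFunctorCompHomologyFunctorIso (ModuleCat.{u} P) 0).app _
          by_cases hi : i = 0
          · subst hi
            exact Module.Finite.equiv e0.toLinearEquiv.symm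
          · haveI := ModuleCat.subsingleton_of_isZero (show IsZero
                ((DerivedCategory.homologyFunctor (ModuleCat.{u} P) i).obj (Dual.inD P P)) from
              (lt_or_gt_of_ne hi).elim (((DerivedCategory.isGE_iff (Dual.inD P P) 0).1 inferInstance) i)
                (((DerivedCategory.isLE_iff (Dual.inD P P) 0).1 inferInstance) i))
            infer_instance) _ _
    obtain ⟨S, hS⟩ := (inferInstance : Module.Finite P (Dual.inD P (P ⧸ I) ⟶ (Dual.inD P P)⟦c⟧)).fg_top
    classical
    refine ⟨⟨S.image (ρ c), top_le_iff.1 fun y hy => ?_⟩⟩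
    clear hy
    obtain ⟨x, rfl⟩ := (hρb c).2 y
    have hx : x ∈ Submodule.span P (S : Set _) := hS ▸ Submodule.mem_top
    induction hx using Submodule.span_induction with
    | mem x hx => exact Submodule.subset_span (by simpa using ⟨x, hx, rfl⟩)
    | zero => simp
    | add x y _ _ hx hy => rw [map_add]; exact add_mem hx hy
    | smul a x _ hx => rw [LinearMap.map_smulₛₗ]; exact Submodule.smul_mem _ _ hx
  obtain ⟨m, hm1, hm2⟩ := (hloc q hg).2
  let φ : A →ₗ[A] H := LinearMap.toSpanSingleton A H m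
  obtain ⟨T1, hT1⟩ := (inferInstance : Module.Finite A (H ⧸ LinearMap.range φ)).fg_top
  obtain ⟨s1, hs1, hs1'⟩ : ∃ s ∉ q.asIdeal, ∀ y : H, ∃ a : A, s • y = a • m := by
    classical
    choose s hs a ha using fun y : H ⧸ LinearMap.range φ => hm1 (Function.surjInv (Submodule.mkQ_surjective _) y)
    refine ⟨∏ y ∈ T1, s y, fun h => ?_, fun y => ?_⟩
    · obtain ⟨z, hz, hz'⟩ := (Ideal.IsPrime.prod_mem_iff).1 h
      exact hs z hz'
    · have hy : Submodule.mkQ (LinearMap.range φ) y ∈ Submodule.span A (T1 : Set _) := hT1 ▸ Submodule.mem_top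
      have key : ∀ z ∈ Submodule.span A (T1 : Set (H ⧸ LinearMap.range φ)), (∏ w ∈ T1, s w) • z = 0 := by
        intro z hz
        induction hz using Submodule.span_induction with
        | mem z hz =>
          rw [← Finset.prod_erase_mul T1 s hz, mul_smul]
          have : s z • z = 0 := by
            conv_lhs => arg 2; rw [← Function.surjInv_eq (Submodule.mkQ_surjective _) z]
            rw [← map_smul, ha, map_smul]
            rw [show Submodule.mkQ (LinearMap.range φ) m = 0 from (Submodule.Quotient.mk_eq_zero _).2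
              ⟨1, one_smul A m⟩, smul_zero]
          rw [this, smul_zero]
        | zero => exact smul_zero _
        | add z z' _ _ hz hz' => rw [smul_add, hz, hz', add_zero]
        | smul a z _ hz => rw [smul_comm, hz, smul_zero]
      have := key _ hy
      rw [← map_smul] at this
      obtain ⟨a, ha⟩ := (Submodule.Quotient.mk_eq_zero _).1 this
      exact ⟨a, ha.symm⟩
  obtain ⟨s2, hs2, hs2'⟩ : ∃ s ∉ q.asIdeal, ∀ a : A, a • m = 0 → s * a = 0 := by
    classical
    obtain ⟨T2, hT2⟩ := IsNoetherian.noetherian (LinearMap.ker φ)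
    choose s hs ha using fun a : LinearMap.ker φ => hm2 a.1 a.2
    have hT : ∀ z ∈ T2, z ∈ LinearMap.ker φ := fun z hz => hT2 ▸ Submodule.subset_span hz
    refine ⟨∏ z : T2, s ⟨z.1, hT z.1 z.2⟩, fun h => ?_, fun a hma => ?_⟩
    · obtain ⟨z, -, hz⟩ := (Ideal.IsPrime.prod_mem_iff).1 h
      exact hs _ hz
    · have : a ∈ Submodule.span A (T2 : Set A) := by rw [hT2]; exact hma
      clear hma
      induction this using Submodule.span_induction with
      | mem z hz =>
        rw [← Finset.prod_erase_mul Finset.univ (fun z : T2 => s ⟨z.1, hT z.1 z.2⟩) (Finset.mem_univ ⟨z, hz⟩),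
          mul_assoc, ha ⟨z, _⟩, mul_zero]
      | zero => exact mul_zero _
      | add z z' _ _ hz hz' => rw [mul_add, hz, hz', add_zero]
      | smul a z _ hz => rw [smul_eq_mul, mul_left_comm, hz, mul_zero]
  let f := ψ g * (s1 * s2)
  refine ⟨f, fun h => ?_, (n : ℤ) - c, ?_⟩
  · rcases Ideal.IsPrime.mem_or_mem inferInstance h with h | h
    · exact hg h
    · exact (Ideal.IsPrime.mem_or_mem inferInstance h).elim hs1 hs2
  intro _
  let B := Localization.Away f
  haveI : Module.Flat A B := IsLocalization.flat B (Submonoid.powers f)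
  obtain ⟨eH⟩ := nonempty_away_equiv H m (s1 * s2) f (dvd_mul_left _ _)
    (fun y => by
      obtain ⟨a, ha⟩ := hs1' y
      exact ⟨s2 * a, by rw [mul_comm s1 s2, mul_smul, ha, mul_smul]⟩)
    (fun a ha => by rw [mul_assoc, hs2' a ha, mul_zero])
  let X : Dual.D B := (FlatBC.L A B).obj (F.obj K)
  have hX : ∀ i : ℤ, i ≠ c → IsZero ((DerivedCategory.homologyFunctor (ModuleCat.{u} B) i).obj X) := fun i hi => by
    haveI : Subsingleton (B ⊗[A] Dual.HD A (F.obj K) i) := subsingleton_away _ f fun p hp =>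
      (hloc p fun h => hp (Ideal.mul_mem_right _ _ h)).1 i hi
    haveI : Subsingleton (Dual.HD B X i) := (FlatBC.hEquiv A B (F.obj K) i).toEquiv.subsingleton
    exact ModuleCat.isZero_of_subsingleton _
  haveI : DerivedCategory.IsGE X c := (DerivedCategory.isGE_iff X c).2 fun j hj => hX j (by lia)
  haveI : DerivedCategory.IsLE X c := (DerivedCategory.isLE_iff X c).2 fun j hj => hX j (by lia)
  obtain ⟨eX⟩ := Groth.L10.exists_iso_single_H (A := ModuleCat.{u} B) X c
  exact ⟨(FlatBC.lbcIso (A := A) (B := B)).app _ ≪≫ ((FlatBC.L A B).commShiftIso (n : ℤ)).app _ ≪≫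
    (shiftFunctor (Dual.D B) (n : ℤ)).mapIso (eX ≪≫
      (DerivedCategory.singleFunctor (ModuleCat.{u} B) c).mapIso
        ((FlatBC.hEquiv A B (F.obj K) c).trans eH).toModuleIso ≪≫
      (Groth.L10.DR.singleShift c (ModuleCat.of B B)).symm) ≪≫
    ((shiftFunctorAdd' (Dual.D B) (-c) (n : ℤ) ((n : ℤ) - c) (by lia)).app _).symm⟩

end Groth.L29.ShriekLCI
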