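import Groth.Agent.L29.Dual.HomExt
import Groth.Agent.L29.Dual.Coind

/-!
Coinduction of `Hom•(X, J)` is `Hom•` from the base change of `X` into the coinduction of `J`.
-/

set_option autoImplicit false

universe u

open CategoryTheory CategoryTheory.Limits CochainComplex CochainComplex.HomComplex HomologicalComplex

attribute [local instance] HasDerivedCategory.standard

set_option backward.defeqAttrib.useBackward true
set_option backward.isDefEq.respectTransparency false
set_option linter.style.haveILetI false

namespace Groth.L29.CoindHom

variable {P B : Type u} [CommRing P] [CommRing B] [Algebra P B] (X J : DRing.Cx P)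

local notation "φ" => algebraMap P B
/-- coinduction -/
noncomputable abbrev coextP (P B : Type u) [CommRing P] [CommRing B] [Algebra P B] : ModuleCat.{u} P ⥤ ModuleCat.{u} B :=
  ModuleCat.coextendScalars.{u, u, u} (algebraMap P B)

/-- `B` over `P` -/
noncomputable abbrev resBP (P B : Type u) [CommRing P] [CommRing B] [Algebra P B] : ModuleCat.{u} P :=
  (ModuleCat.restrictScalars.{u} (algebraMap P B)).obj (ModuleCat.of B B)

local notation "coext" => coextP P B
local notation "ext" => Groth.L29.FlatBC.ext P B
local notation "Co" => Groth.L29.RestrictAdj.coindCx (algebraMap P B)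
local notation "resB" => resBP P B

/-- the transposed component -/
noncomputable def inner (n : ℤ) (g : (coext).obj ((DRing.homCx X J).X n)) (p q : ℤ) (h : p + n = q) :
    X.X p ⟶ (ModuleCat.restrictScalars.{u} φ).obj ((coext).obj (J.X q)) :=
  ModuleCat.ofHom (X := X.X p) (Y := (ModuleCat.restrictScalars.{u} φ).obj ((coext).obj (J.X q)))
    (
    { toFun := fun x => (ModuleCat.CoextendScalars.equiv φ (J.X q)).symm
        { toFun := fun b : resB => (ModuleCat.CoextendScalars.equiv φ _ g b : Cochain X J n).v p q h x
          map_add' := fun b b' => by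
            rw [map_add]
            exact LinearMap.congr_fun (congrArg ModuleCat.Hom.hom
              (Cochain.add_v (ModuleCat.CoextendScalars.equiv φ _ g b : Cochain X J n) _ p q h)) x
          map_smul' := fun c b => by
            rw [_root_.map_smul]
            exact LinearMap.congr_fun (congrArg ModuleCat.Hom.hom
              (Cochain.smul_v c (ModuleCat.CoextendScalars.equiv φ _ g b : Cochain X J n) p q h)) x }
      map_add' := fun x y => by
        refine ModuleCat.CoextendScalars.ext (LinearMap.ext fun b : resB => ?_)
        rw [LinearEquiv.apply_symm_apply, map_add (ModuleCat.CoextendScalars.equiv φ (J.X q)),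
          LinearEquiv.apply_symm_apply, LinearEquiv.apply_symm_apply, LinearMap.add_apply]
        exact map_add ((ModuleCat.CoextendScalars.equiv φ _ g b : Cochain X J n).v p q h).hom x y
      map_smul' := fun c x => by
        refine ModuleCat.CoextendScalars.ext (LinearMap.ext fun b : resB => ?_)
        change (ModuleCat.CoextendScalars.equiv φ _ g b : Cochain X J n).v p q h (c • x) =
          (ModuleCat.CoextendScalars.equiv φ _ g ((show B from b) * φ c) : Cochain X J n).v p q h x
        rw [_root_.map_smul, show ((show B from b) * φ c : B) = (c • b : resB) from mul_comm (show B from b) (φ c),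
          _root_.map_smul]
        exact (LinearMap.congr_fun (congrArg ModuleCat.Hom.hom
          (Cochain.smul_v c (ModuleCat.CoextendScalars.equiv φ _ g b : Cochain X J n) p q h)) x).symm } :
      X.X p →ₗ[P] ((ModuleCat.restrictScalars.{u} φ).obj ((coext).obj (J.X q))))

theorem inner_apply (n : ℤ) (g : (coext).obj ((DRing.homCx X J).X n)) (p q : ℤ) (h : p + n = q) (x : X.X p) (b : resB) :
    ModuleCat.CoextendScalars.equiv φ (J.X q) (inner X J n g p q h x) b =
      (ModuleCat.CoextendScalars.equiv φ _ g b : Cochain X J n).v p q h x :=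
  LinearMap.congr_fun (LinearEquiv.apply_symm_apply _ _) b

theorem inner_add (n : ℤ) (g g' : (coext).obj ((DRing.homCx X J).X n)) (p q : ℤ) (h : p + n = q) :
    inner X J n (g + g') p q h = inner X J n g p q h + inner X J n g' p q h := by
  ext x
  refine ModuleCat.CoextendScalars.ext (LinearMap.ext fun b : resB => ?_)
  refine (inner_apply X J n (g + g') p q h x b).trans ?_
  rw [ModuleCat.hom_add, LinearMap.add_apply]
  refine Eq.trans ?_ (congrFun (congrArg DFunLike.coe
    (map_add (ModuleCat.CoextendScalars.equiv φ (J.X q)) (inner X J n g p q h x) (inner X J n g' p q h x))) b).symm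
  rw [LinearMap.add_apply, map_add, LinearMap.add_apply]
  refine Eq.trans ?_ (congrArg₂ (fun (a b : J.X q) => a + b) (inner_apply X J n g p q h x b) (inner_apply X J n g' p q h x b)).symm
  exact LinearMap.congr_fun (congrArg ModuleCat.Hom.hom (Cochain.add_v
    (ModuleCat.CoextendScalars.equiv φ _ g b : Cochain X J n) (ModuleCat.CoextendScalars.equiv φ _ g' b) p q h)) x

/-- the map in one degree -/
noncomputable def fwd (n : ℤ) :
    (coext).obj ((DRing.homCx X J).X n) ⟶ (DRing.homCx ((HomExt.extCx P B).obj X) (Co J)).X n :=
  ModuleCat.ofHom (Y := Cochain ((HomExt.extCx P B).obj X) (Co J) n)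
    { toFun := fun g => Cochain.mk fun p q h =>
        ((ModuleCat.extendRestrictScalarsAdj.{u, u, u} φ).homEquiv _ _).symm (inner X J n g p q h)
      map_add' := fun g g' => Cochain.ext _ _ fun p q h => by
        rw [Cochain.add_v, Cochain.mk_v, Cochain.mk_v, Cochain.mk_v]
        apply ((ModuleCat.extendRestrictScalarsAdj.{u, u, u} φ).homEquiv _ _).injective
        rw [Equiv.apply_symm_apply, Adjunction.homEquiv_unit, Functor.map_add, Preadditive.comp_add,
          ← Adjunction.homEquiv_unit, ← Adjunction.homEquiv_unit, Equiv.apply_symm_apply, Equiv.apply_symm_apply]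
        exact inner_add X J n g g' p q h
      map_smul' := fun c g => Cochain.ext _ _ fun p q h => by
        rw [RingHom.id_apply, Cochain.smul_v, Cochain.mk_v, Cochain.mk_v]
        apply ((ModuleCat.extendRestrictScalarsAdj.{u, u, u} φ).homEquiv _ _).injective
        rw [Equiv.apply_symm_apply]
        ext x
        refine Eq.trans ?_ (congrArg (fun k => c • k x)
          (((ModuleCat.extendRestrictScalarsAdj.{u, u, u} φ).homEquiv _ _).apply_symm_apply (inner X J n g p q h))).symm
        refine ModuleCat.CoextendScalars.ext (LinearMap.ext fun b : resB => ?_)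
        refine (inner_apply X J n (c • g) p q h x b).trans ?_
        refine Eq.trans ?_ (congrFun (congrArg DFunLike.coe
          (_root_.map_smul (ModuleCat.CoextendScalars.equiv φ (J.X q)) c (inner X J n g p q h x))) b).symm
        refine Eq.trans ?_ (inner_apply X J n g p q h x ((show B from b) * c)).symm
        rw [_root_.map_smul]
        rfl }

theorem fwd_apply (n : ℤ) (g : (coext).obj ((DRing.homCx X J).X n)) (p q : ℤ) (h : p + n = q) (x : X.X p) (b : resB) :
    ModuleCat.CoextendScalars.equiv φ (J.X q)
      ((fwd X J n g : Cochain ((HomExt.extCx P B).obj X) (Co J) n).v p q h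
        ((ModuleCat.extendRestrictScalarsAdj.{u, u, u} φ).unit.app (X.X p) x)) b =
      (ModuleCat.CoextendScalars.equiv φ _ g b : Cochain X J n).v p q h x := by
  have e := ((ModuleCat.extendRestrictScalarsAdj.{u, u, u} φ).homEquiv _ _).apply_symm_apply (inner X J n g p q h)
  rw [Adjunction.homEquiv_unit] at e
  rw [← inner_apply X J n g p q h x b]
  rw [show ((fwd X J n g : Cochain ((HomExt.extCx P B).obj X) (Co J) n).v p q h) =
    ((ModuleCat.extendRestrictScalarsAdj.{u, u, u} φ).homEquiv _ _).symm (inner X J n g p q h) from by
      unfold fwd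
      exact Cochain.mk_v (F := (HomExt.extCx P B).obj X) (G := Co J) (fun p q h => ((ModuleCat.extendRestrictScalarsAdj.{u, u, u} φ).homEquiv _ _).symm (inner X J n g p q h)) p q h]
  exact congrArg (fun k => ModuleCat.CoextendScalars.equiv φ (J.X q) (k x) b) e

theorem fwd_bijective (n : ℤ) : Function.Bijective (fwd (B := B) X J n) := by
  refine ⟨fun g g' hg => ?_, fun w => ?_⟩
  · refine ModuleCat.CoextendScalars.ext (LinearMap.ext fun b : resB => ?_)
    refine Cochain.ext (ModuleCat.CoextendScalars.equiv φ _ g b : Cochain X J n)
      (ModuleCat.CoextendScalars.equiv φ _ g' b) fun p q h => ModuleCat.hom_ext (LinearMap.ext fun x => ?_)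
    exact (fwd_apply X J n g p q h x b).symm.trans ((congrArg (fun k : Cochain ((HomExt.extCx P B).obj X) (Co J) n =>
      ModuleCat.CoextendScalars.equiv φ (J.X q) (k.v p q h _) b) hg).trans (fwd_apply X J n g' p q h x b))
  · let w' : Cochain ((HomExt.extCx P B).obj X) (Co J) n := w
    let v : ∀ (p q : ℤ) (h : p + n = q), resB → X.X p → J.X q := fun p q h b x =>
      ModuleCat.CoextendScalars.equiv φ (J.X q)
        (w'.v p q h ((ModuleCat.extendRestrictScalarsAdj.{u, u, u} φ).unit.app (X.X p) x)) b
    let comp : resB → Cochain X J n := fun b => Cochain.mk fun p q h => ModuleCat.ofHom (X := X.X p) (Y := J.X q)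
      { toFun := v p q h b
        map_add' := fun x y => by simp only [v, map_add]; rfl
        map_smul' := fun c x => by
          simp only [v, _root_.map_smul, RingHom.id_apply]
          change ModuleCat.CoextendScalars.equiv φ (J.X q) (w'.v p q h (φ c • _)) b = _
          rw [_root_.map_smul, _root_.map_smul]
          change ModuleCat.CoextendScalars.equiv φ (J.X q) (w'.v p q h _) ((show B from b) * φ c) = _
          rw [show ((show B from b) * φ c : B) = (c • b : resB) from mul_comm (show B from b) (φ c), _root_.map_smul] }
    refine ⟨(ModuleCat.CoextendScalars.equiv φ ((DRing.homCx X J).X n)).symm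
      { toFun := comp
        map_add' := fun b b' => Cochain.ext _ _ fun p q h => ModuleCat.hom_ext (LinearMap.ext fun x => by
          rw [Cochain.add_v]
          exact map_add (ModuleCat.CoextendScalars.equiv φ (J.X q)
            (w'.v p q h ((ModuleCat.extendRestrictScalarsAdj.{u, u, u} φ).unit.app (X.X p) x))) b b')
        map_smul' := fun c b => Cochain.ext _ _ fun p q h => ModuleCat.hom_ext (LinearMap.ext fun x => by
          rw [RingHom.id_apply, Cochain.smul_v]
          exact _root_.map_smul (ModuleCat.CoextendScalars.equiv φ (J.X q)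
            (w'.v p q h ((ModuleCat.extendRestrictScalarsAdj.{u, u, u} φ).unit.app (X.X p) x))) c b) }, Cochain.ext _ _ fun p q h => ?_⟩
    apply ((ModuleCat.extendRestrictScalarsAdj.{u, u, u} φ).homEquiv _ _).injective
    ext x
    refine ModuleCat.CoextendScalars.ext (LinearMap.ext fun b : resB => ?_)
    exact fwd_apply X J n _ p q h x b

/-- coinduction of `Hom•` -/
noncomputable def iso : Co (DRing.homCx X J) ≅ DRing.homCx ((HomExt.extCx P B).obj X) (Co J) :=
  HomologicalComplex.Hom.isoOfComponents
    (fun n => @asIso _ _ _ _ (fwd X J n) ((ConcreteCategory.isIso_iff_bijective _).2 (fwd_bijective X J n)))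
    fun i j hij => by
      refine ModuleCat.hom_ext (LinearMap.ext fun g => ?_)
      change δ i j (fwd X J i g : Cochain ((HomExt.extCx P B).obj X) (Co J) i) =
        fwd X J j ((coext).map ((DRing.homCx X J).d i j) g)
      refine Cochain.ext _ _ fun p q h => ?_
      apply ((ModuleCat.extendRestrictScalarsAdj.{u, u, u} φ).homEquiv _ _).injective
      ext x
      refine ModuleCat.CoextendScalars.ext (LinearMap.ext fun b : resB => ?_)
      refine Eq.trans ?_ (fwd_apply X J j _ p q h x b).symm
      have hij' : i + 1 = j := hij
      change ModuleCat.CoextendScalars.equiv φ (J.X q) ((δ i j (fwd X J i g : Cochain _ _ i)).v p q h _) b =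
        (δ i j (ModuleCat.CoextendScalars.equiv φ _ g b : Cochain X J i)).v p q h x
      rw [δ_v i j hij' _ p q h (q - 1) (p + 1) rfl rfl, δ_v i j hij' _ p q h (q - 1) (p + 1) rfl rfl]
      refine congrArg₂ (fun (a c : J.X q) => a + c) ?_ ?_
      · exact congrArg (J.d (q - 1) q) (fwd_apply X J i g p (q - 1) (by omega) x b)
      · refine congrArg (fun a : J.X q => j.negOnePow • a) ?_
        refine Eq.trans ?_ (fwd_apply X J i g (p + 1) q (by omega) (X.d p (p + 1) x) b)
        exact congrArg (fun k => ModuleCat.CoextendScalars.equiv φ (J.X q) ((fwd X J i g : Cochain _ _ i).v (p + 1) q _ k) b)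
          (LinearMap.congr_fun (congrArg ModuleCat.Hom.hom
            ((ModuleCat.extendRestrictScalarsAdj.{u, u, u} φ).unit.naturality (X.d p (p + 1)))) x).symm

end Groth.L29.CoindHom
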