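import Groth.Agent.L29.Shriek.CoindHom
import Groth.Agent.L29.Dual.GorensteinFlatBC
import Groth.Agent.L29.Dual.TorInj
import Groth.Agent.L10.DRing.KFlatLBC
import Groth.Agent.L10.DRing.RHomComp
import Groth.Agent.S1819

/-!
Duality commutes with base change and coinduction: derived tools.
-/

set_option autoImplicit false

universe u

open CategoryTheory CategoryTheory.Limits CochainComplex CochainComplex.HomComplex HomologicalComplex

attribute [local instance] HasDerivedCategory.standard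

set_option backward.defeqAttrib.useBackward true
set_option backward.isDefEq.respectTransparency false
set_option linter.style.haveILetI false

namespace Groth.L29.DualBC

variable {A B : Type u} [CommRing A] [CommRing B]

/-- `Hom•(X, L[n]) = Hom•(X, L)[n]` -/
noncomputable def homShift (X L : DRing.Cx A) (n : ℤ) : (DRing.homCx X L)⟦n⟧ ≅ DRing.homCx X (L⟦n⟧) :=
  HomologicalComplex.Hom.isoOfComponents
    (fun i => LinearEquiv.toModuleIso (X₁ := Cochain X L (i + n)) (X₂ := Cochain X (L⟦n⟧) i)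
      (Cochain.rightShiftLinearEquiv A X L (i + n) n i rfl))
    fun i j _ => by
      refine ModuleCat.hom_ext (LinearMap.ext fun z : Cochain X L (i + n) => ?_)
      change δ i j (z.rightShift n i rfl) = (n.negOnePow • δ (i + n) (j + n) z).rightShift n j rfl
      rw [Cochain.rightShift_units_smul, Cochain.δ_rightShift z n i j rfl (j + n) rfl]

/-- maps into K-injective complexes come from chain maps -/
theorem exists_chainMap_inj {K L : DRing.Cx A} [L.IsKInjective] (α : DRing.toD K ⟶ DRing.toD L) :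
    ∃ f : K ⟶ L, DerivedCategory.Q.map f = α := by
  let q := DerivedCategory.quotientCompQhIso (ModuleCat.{u} A)
  obtain ⟨g, hg⟩ := (CochainComplex.IsKInjective.Qh_map_bijective
    ((HomotopyCategory.quotient (ModuleCat.{u} A) _).obj K) L).2 (q.hom.app K ≫ α ≫ q.inv.app L)
  obtain ⟨f, rfl⟩ := (HomotopyCategory.quotient (ModuleCat.{u} A) _).map_surjective g
  refine ⟨f, ?_⟩
  rw [← cancel_epi (q.hom.app K)]
  have := q.hom.naturality f
  dsimp at this
  rw [← this, hg, Category.assoc, Category.assoc, Iso.inv_hom_id_app]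
  exact congrArg (q.hom.app K ≫ ·) (Category.comp_id α)

/-- `Hom•(-, L)` for K-injective `L` depends on the class in `D` only -/
theorem nonempty_homCx_congr {X X' : DRing.Cx A} (e : DRing.toD X ≅ DRing.toD X') (L : DRing.Cx A)
    [L.IsKInjective] : Nonempty (DRing.toD (DRing.homCx X L) ≅ DRing.toD (DRing.homCx X' L)) := by
  obtain ⟨Y, s, hs, g, hfac⟩ := DerivedCategory.right_fac e.hom
  haveI : QuasiIso s := (DerivedCategory.isIso_Q_map_iff_quasiIso _ s).1 hs
  haveI : QuasiIso g := (DerivedCategory.isIso_Q_map_iff_quasiIso _ g).1 (by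
    rw [show DerivedCategory.Q.map g = DerivedCategory.Q.map s ≫ e.hom by rw [hfac, IsIso.hom_inv_id_assoc]]
    infer_instance)
  haveI := Groth.L10.RHomCx.quasiIso_homCxPre s L
  haveI := Groth.L10.RHomCx.quasiIso_homCxPre g L
  haveI := Groth.L10.RHomCx.isIso_Q_map (Groth.L10.RHomCx.homCxPre s L)
  haveI := Groth.L10.RHomCx.isIso_Q_map (Groth.L10.RHomCx.homCxPre g L)
  exact ⟨asIso (DerivedCategory.Q.map (Groth.L10.RHomCx.homCxPre s L)) ≪≫
    (asIso (DerivedCategory.Q.map (Groth.L10.RHomCx.homCxPre g L))).symm⟩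

/-- `RHom` into a shifted coinduced complex -/
theorem nonempty_rhom_iso {E E' : DRing.Cx A} [DRing.HasRHomCx E] (e : DRing.toD E' ≅ DRing.toD E)
    (L : DRing.Cx A) [L.IsKInjective] (n : ℤ) :
    Nonempty ((DRing.toD (DRing.homCx E' L))⟦n⟧ ≅ (DRing.RHomCx E).obj ((DRing.toD L)⟦n⟧)) := by
  obtain ⟨h⟩ := nonempty_homCx_congr e L
  exact ⟨(CategoryTheory.shiftFunctor (Dual.D A) n).mapIso h ≪≫
    ((DerivedCategory.Q.commShiftIso n).app (DRing.homCx E L)).symm ≪≫
    DerivedCategory.Q.mapIso (homShift E L n) ≪≫ Groth.L10.RHomCx.computeInj E (L⟦n⟧) ≪≫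
    (DRing.RHomCx E).mapIso ((DerivedCategory.Q.commShiftIso n).app L)⟩

/-- base change along a composite -/
noncomputable def extCompIso (A P B : Type u) [CommRing A] [CommRing P] [CommRing B] [Algebra A P] [Algebra P B]
    [Algebra A B] [IsScalarTower A P B] (X : DRing.Cx A) :
    (HomExt.extCx A B).obj X ≅ (HomExt.extCx P B).obj ((HomExt.extCx A P).obj X) :=
  let e : FlatBC.ext A B ≅ FlatBC.ext A P ⋙ FlatBC.ext P B :=
    eqToIso (by rw [FlatBC.ext, IsScalarTower.algebraMap_eq A P B]) ≪≫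
      ModuleCat.extendScalarsComp (algebraMap A P) (algebraMap P B)
  HomologicalComplex.Hom.isoOfComponents (fun i => e.app (X.X i)) fun i j _ => (e.hom.naturality (X.d i j)).symm

/-- the main isomorphism, for the algebra structures of a presentation -/
theorem main (A P B : Type u) [CommRing A] [CommRing P] [CommRing B] [IsNoetherianRing A]
    [Algebra A P] [Algebra P B] [Algebra A B] [IsScalarTower A P B] [Module.Flat A P]
    [DRing.HasLBaseChange (algebraMap A P)] [DRing.HasLBaseChange (algebraMap A B)]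
    (R : Dual.D P ⥤ Dual.D B) (adj : DRing.restrictD (algebraMap P B) ⊣ R)
    (ω : Dual.D A) (hω : Dual.IsDualizing A ω)
    (hωP : Dual.IsDualizing P ((DRing.LBaseChange (algebraMap A P)).obj ω))
    (K : DRing.Cx A) [DRing.HasRHomCx K] (hK : ∀ i : ℤ, Module.Finite A (Dual.HD A (DRing.toD K) i))
    (E : DRing.Cx B) [DRing.HasRHomCx E]
    (hE : Nonempty (DRing.toD E ≅ (DRing.LBaseChange (algebraMap A B)).obj ((DRing.RHomCx K).obj ω))) (n : ℤ) :
    Nonempty ((R.obj ((DRing.LBaseChange (algebraMap A P)).obj (DRing.toD K)))⟦n⟧ ≅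
      (DRing.RHomCx E).obj ((R.obj ((DRing.LBaseChange (algebraMap A P)).obj ω))⟦n⟧)) := by
  obtain ⟨eE⟩ := hE
  obtain ⟨a, b, I, hI, hIi, ⟨eI⟩, hev⟩ := Groth.L29.TorInj.exists_model hω
  obtain ⟨a', b', J, hJ, hJi, ⟨eJ⟩, -⟩ := Groth.L29.TorInj.exists_model hωP
  haveI := Groth.L29.TorInj.isKInjective_of_bounds hI hIi
  haveI := Groth.L29.TorInj.isKInjective_of_bounds hJ hJi
  haveI : ∀ i, Injective (I.X i) := fun i => by
    haveI := hIi i
    exact Module.injective_object_of_injective_module A (I.X i)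
  haveI : ∀ i, Injective (J.X i) := fun i => by
    haveI := hJi i
    exact Module.injective_object_of_injective_module P (J.X i)
  let bc := (Groth.L29.FlatBC.lbcIso A P)
  let fac := (FlatBC.ext A P).mapDerivedCategoryFactors
  let tD : ∀ X : DRing.Cx A, (DRing.LBaseChange (algebraMap A P)).obj (DRing.toD X) ≅
      DRing.toD ((HomExt.extCx A P).obj X) := fun X => bc.app (DRing.toD X) ≪≫ fac.app X
  let α : DRing.toD ((HomExt.extCx A P).obj I) ≅ DRing.toD J :=
    (tD I).symm ≪≫ (DRing.LBaseChange (algebraMap A P)).mapIso eI ≪≫ eJ.symm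
  obtain ⟨γ, hγ⟩ := exists_chainMap_inj α.hom
  haveI : QuasiIso γ := (DerivedCategory.isIso_Q_map_iff_quasiIso (C := ModuleCat.{u} P) γ).1
    (by rw [hγ]; infer_instance)
  -- the dual of `K` and its K-flat resolution
  let eD : (DRing.RHomCx K).obj ω ≅ DRing.toD (DRing.homCx K I) :=
    (DRing.RHomCx K).mapIso eI.symm ≪≫ (Groth.L10.RHomCx.computeInj K I).symm
  obtain ⟨Q, q, hQ, -, hq, -⟩ := Groth.L10.KFlat.exists_resolution (DRing.homCx K I)
  haveI := hq
  haveI := Groth.L10.RHomCx.isIso_Q_map q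
  haveI := hev K hK
  haveI := Groth.L10.RHomCx.isIso_Q_map (BidualCx.ev I K)
  haveI : QuasiIso (Groth.L10.RHomCx.homCxPre q I) := Groth.L10.RHomCx.quasiIso_homCxPre q I
  haveI := Groth.L10.RHomCx.isIso_Q_map (Groth.L10.RHomCx.homCxPre q I)
  let eK : DRing.toD K ≅ DRing.toD (DRing.homCx Q I) :=
    asIso (DerivedCategory.Q.map (BidualCx.ev I K)) ≪≫ asIso (DerivedCategory.Q.map (Groth.L10.RHomCx.homCxPre q I))
  have hQf : ∀ i, Module.Finite A (Dual.HD A (DRing.toD Q) i) := fun i => by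
    haveI := (Groth.Agent.S1819.result A ω hω K hK).1 i
    exact Module.Finite.equiv ((DerivedCategory.homologyFunctor (ModuleCat.{u} A) i).mapIso
      (eD ≪≫ (asIso (DerivedCategory.Q.map q)).symm)).toLinearEquiv
  haveI := HomExt.quasiIso_θJ γ hI hJ Q hQf
  haveI := Groth.L10.RHomCx.isIso_Q_map (HomExt.θJ γ Q)
  let X := (HomExt.extCx A P).obj Q
  have hX : DRing.IsKFlat P X := Groth.L10.DTen.isKFlat_ext (algebraMap A P) hQ
  let eL : (DRing.LBaseChange (algebraMap A P)).obj (DRing.toD K) ≅ DRing.toD (DRing.homCx X J) :=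
    (DRing.LBaseChange (algebraMap A P)).mapIso eK ≪≫ tD _ ≪≫ asIso (DerivedCategory.Q.map (HomExt.θJ γ Q))
  haveI := Groth.L10.RHomComp.isKInjective_homCx hX J
  obtain ⟨c₁⟩ := RestrictAdj.nonempty_coind_iso (algebraMap P B) adj (DRing.homCx X J)
  obtain ⟨c₂⟩ := RestrictAdj.nonempty_coind_iso (algebraMap P B) adj J
  let eE' : DRing.toD ((HomExt.extCx P B).obj X) ≅ DRing.toD E :=
    DerivedCategory.Q.mapIso (extCompIso A P B Q).symm ≪≫
      (Groth.L10.KFlatLBC.lbcKF (algebraMap A B) Q hQ).symm ≪≫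
      (DRing.LBaseChange (algebraMap A B)).mapIso (asIso (DerivedCategory.Q.map q) ≪≫ eD.symm) ≪≫ eE.symm
  obtain ⟨h⟩ := nonempty_rhom_iso eE' (RestrictAdj.coindCx (algebraMap P B) J) n
  exact ⟨(CategoryTheory.shiftFunctor (Dual.D B) n).mapIso (R.mapIso eL ≪≫ c₁.symm ≪≫
      DerivedCategory.Q.mapIso (CoindHom.iso X J)) ≪≫ h ≪≫
    (DRing.RHomCx E).mapIso ((CategoryTheory.shiftFunctor (Dual.D B) n).mapIso (c₂ ≪≫ R.mapIso eJ))⟩

end Groth.L29.DualBC
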