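import Groth.Agent.L29.Shriek.Epi
import Groth.Agent.L29.Shriek.LCI
import Groth.Agent.L29.Dual.FlatBC
import Groth.Agent.L10.Shriek.Comp
import Groth.Prelude.Def_Disc

/-!
`H⁰` of the right adjoint of restriction along a finite map is `Hom_A(B, A)`; the upper shriek of a quasi-finite map.
-/

set_option autoImplicit false

universe u

open CategoryTheory CategoryTheory.Limits AlgebraicGeometry TensorProduct

attribute [local instance] HasDerivedCategory.standard

set_option backward.defeqAttrib.useBackward true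
set_option backward.isDefEq.respectTransparency false
set_option linter.style.haveILetI false

namespace Groth.L29.FiniteOmega

variable {A B : Type u} [CommRing A] [CommRing B] [Algebra A B]

local notation "φ" => algebraMap A B

/-- `Hom_A(B, A)` as maps of modules -/
noncomputable def omegaEquivHom :
    Disc.Omega A B ≃+ ((ModuleCat.restrictScalars.{u} φ).obj (ModuleCat.of B B) ⟶ ModuleCat.of A A) where
  toFun f := ModuleCat.ofHom (X := (ModuleCat.restrictScalars.{u} φ).obj (ModuleCat.of B B)) (Y := A)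
    { toFun := fun x => f.toLinearMap (show B from x)
      map_add' := fun x y => f.toLinearMap.map_add (show B from x) (show B from y)
      map_smul' := fun a x => (congrArg f.toLinearMap (Algebra.smul_def a (show B from x)).symm).trans
        (f.toLinearMap.map_smul a (show B from x)) }
  invFun g := ⟨{ toFun := fun x => g.hom (show (ModuleCat.restrictScalars.{u} φ).obj (ModuleCat.of B B) from x)
                 map_add' := fun x y => g.hom.map_add x y
                 map_smul' := fun a x => (congrArg g.hom (Algebra.smul_def a x)).trans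
                   (g.hom.map_smul a (show (ModuleCat.restrictScalars.{u} φ).obj (ModuleCat.of B B) from x)) }⟩
  left_inv f := rfl
  right_inv g := rfl
  map_add' f g := rfl

/-- `Hom(B, A) → H⁰(R (A[0]))` -/
theorem nonempty_HD_zero {R : Dual.D A ⥤ Dual.D B} (adj : DRing.restrictD φ ⊣ R) :
    Nonempty (Dual.HD B (R.obj (Dual.inD A A)) 0 ≃ₗ[B] Disc.Omega A B) := by
  let M : ModuleCat.{u} B := ModuleCat.of B B
  let sB := DerivedCategory.singleFunctor (ModuleCat.{u} B) 0
  let sA := DerivedCategory.singleFunctor (ModuleCat.{u} A) 0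
  let res := ModuleCat.restrictScalars.{u} φ
  let ν := res.mapDerivedCategorySingleFunctor (0 : ℤ)
  haveI : (DRing.restrictD φ).Additive := inferInstance
  let Φ : (res.obj M ⟶ ModuleCat.of A A) ≃ (Dual.inD B B ⟶ R.obj (Dual.inD A A)) :=
    ((Functor.FullyFaithful.ofFullyFaithful sA).homEquiv.trans
      (Iso.homCongr (ν.app M).symm (Iso.refl _))).trans (adj.homEquiv _ _)
  have hΦ : ∀ g, Φ g = adj.homEquiv _ _ (ν.hom.app M ≫ sA.map g) := fun g =>
    congrArg (adj.homEquiv _ _) (by simp [Iso.homCongr])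
  let toHD : Disc.Omega A B →ₗ[B] (Dual.inD B B ⟶ R.obj (Dual.inD A A)) :=
    { toFun := fun f => Φ (omegaEquivHom f)
      map_add' := fun f g => by
        rw [map_add, hΦ, hΦ, hΦ, Functor.map_add, Preadditive.comp_add, Groth.L29.RestrictAdj.homEquiv_add φ adj]
      map_smul' := fun b f => by
        rw [RingHom.id_apply, hΦ, hΦ]
        have hom : omegaEquivHom (b • f) = res.map (b • 𝟙 M) ≫ omegaEquivHom f := rfl
        rw [hom, Functor.map_comp, ← Category.assoc]
        rw [show ν.hom.app M ≫ sA.map (res.map (b • 𝟙 M)) = (DRing.restrictD φ).map (sB.map (b • 𝟙 M)) ≫ ν.hom.app M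
          from (ν.hom.naturality (b • 𝟙 M)).symm]
        rw [Category.assoc, Adjunction.homEquiv_naturality_left, Functor.map_smul, CategoryTheory.Functor.map_id,
          Linear.smul_comp, Category.id_comp] }
  have hb : Function.Bijective toHD := Φ.bijective.comp (omegaEquivHom (A := A) (B := B)).bijective
  exact ⟨((LinearEquiv.ofBijective toHD hb).trans (Groth.L29.HomD.evalEquiv _)).symm⟩


open Groth.L10.Shriek in
/-- the upper shriek of a quasi-finite map in degree `0` -/
theorem nonempty_quasiFinite (A B B' : Type u) [CommRing A] [CommRing B] [CommRing B'] [IsNoetherianRing A]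
    [IsNoetherianRing B] [Algebra A B] [Algebra A B'] [Algebra B' B] [IsScalarTower A B' B] [Module.Finite A B']
    (hopen : IsOpenImmersion (Spec.map (CommRingCat.ofHom (algebraMap B' B)))) (n : ℕ)
    (ψ : MvPolynomial (Fin n) A →ₐ[A] B) (hψ : Function.Surjective ψ)
    [DRing.HasLBaseChange (algebraMap A (MvPolynomial (Fin n) A))]
    (Rψ : Dual.D (MvPolynomial (Fin n) A) ⥤ Dual.D B) (adj : DRing.restrictD ψ.toRingHom ⊣ Rψ) :
    Nonempty (Dual.HD B (Dual2.shriekVia n Rψ (Dual.inD A A)) 0 ≃ₗ[B] (B ⊗[B'] Disc.Omega A B')) := by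
  haveI : IsNoetherianRing B' := IsNoetherianRing.of_finite A B'
  obtain ⟨hflat, hepi⟩ := Groth.L29.ShriekEpi.flat_epi_of_isOpenImmersion B' B hopen
  haveI := hflat
  haveI := hepi
  haveI := hopen
  have hftB : Algebra.FiniteType B' B := RingHom.finiteType_algebraMap.1
    ((HasRingHomProperty.Spec_iff (P := @LocallyOfFiniteType)).1
      (inferInstance : LocallyOfFiniteType (Spec.map (CommRingCat.ofHom (algebraMap B' B)))))
  obtain ⟨n', ψ', hψ'⟩ := Algebra.FiniteType.iff_quotient_mvPolynomial''.1 (inferInstance : Algebra.FiniteType A B')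
  obtain ⟨m, χ, hχ⟩ := Algebra.FiniteType.iff_quotient_mvPolynomial''.1 hftB
  haveI := Groth.L10.KFlatLBC.hasLBaseChange (algebraMap A (MvPolynomial (Fin n') A))
  haveI := Groth.L10.KFlatLBC.hasLBaseChange (algebraMap B' (MvPolynomial (Fin m) B'))
  haveI := Groth.L10.KFlatLBC.hasLBaseChange (algebraMap B' B)
  obtain ⟨R', ⟨adj'⟩⟩ := exists_rightAdjoint ψ'.toRingHom
  obtain ⟨Rχ, ⟨adjχ⟩⟩ := exists_rightAdjoint χ.toRingHom
  obtain ⟨RF, ⟨adjF⟩⟩ := exists_rightAdjoint (algebraMap A B')
  haveI : DerivedCategory.IsGE (Dual.inD A A) 0 := inferInstanceAs (DerivedCategory.IsGE ((DerivedCategory.singleFunctor (ModuleCat.{u} A) 0).obj (ModuleCat.of A A)) 0)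
  obtain ⟨c⟩ := nonempty_comp A B' B n' ψ' hψ' adj' m χ hχ adjχ n ψ hψ adj (Dual.inD A A) 0
  obtain ⟨e⟩ := Groth.L29.ShriekEpi.nonempty_iso_of_epi B' B m χ hχ Rχ adjχ (Dual2.shriekVia n' R' (Dual.inD A A))
  obtain ⟨f⟩ := nonempty_finite n' ψ' adj' adjF (Dual.inD A A)
  obtain ⟨w⟩ := nonempty_HD_zero adjF
  let i : Dual2.shriekVia n Rψ (Dual.inD A A) ≅ (Groth.L29.FlatBC.L B' B).obj (RF.obj (Dual.inD A A)) :=
    c ≪≫ e ≪≫ (DRing.LBaseChange (algebraMap B' B)).mapIso f ≪≫ (Groth.L29.FlatBC.lbcIso B' B).app _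
  exact ⟨((DerivedCategory.homologyFunctor (ModuleCat.{u} B) 0).mapIso i).toLinearEquiv.trans
    ((Groth.L29.FlatBC.hEquiv B' B _ 0).trans (LinearEquiv.baseChange B' B _ _ w))⟩

end Groth.L29.FiniteOmega
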